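import Mathlib
import Cfsg.Prelude
import Cfsg.Agent.Helper3.ExtraCore
import Cfsg.Agent.Helper9.Trio.Abs

set_option autoImplicit false

/-! An involution whose centralizer is the product of a normal subgroup of order 32 and a
complement isomorphic to the alternating group of degree five, from properties of elements. -/

namespace Cfsg.Agent.Helper9.J3Z

open Cfsg

/-- a subgroup with two central elements, central commutators and central squares is extraspecial. -/
theorem extraspecial_of {Y : Type*} [Group Y] [Finite Y] (Q : Subgroup Y) (t : Y) (tQ : t ∈ Q)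
    (t1 : t ≠ 1) (cardQ : 2 < Nat.card Q)
    (comm : ∀ x ∈ Q, ∀ y ∈ Q, x * y * x⁻¹ * y⁻¹ = 1 ∨ x * y * x⁻¹ * y⁻¹ = t)
    (sq : ∀ x ∈ Q, x * x = 1 ∨ x * x = t)
    (center : ∀ x ∈ Q, (∀ y ∈ Q, x * y = y * x) → x = 1 ∨ x = t)
    (tc : ∀ y ∈ Q, y * t = t * y) : IsExtraspecial 2 ↥Q := by
  have : Fact (Nat.Prime 2) := ⟨Nat.prime_two⟩
  have mem_center_iff : ∀ x : ↥Q, x ∈ Subgroup.center ↥Q ↔ x = 1 ∨ x = ⟨t, tQ⟩ := by
    intro x
    constructor
    · intro hx
      have hx' := Subgroup.mem_center_iff.mp hx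
      have : ∀ y ∈ Q, (x : Y) * y = y * x := by
        intro y hy
        have := congrArg Subtype.val (hx' ⟨y, hy⟩)
        exact this.symm
      rcases center x x.2 this with e | e
      · left
        exact Subtype.ext e
      · right
        exact Subtype.ext e
    · rintro (rfl | rfl)
      · exact Subgroup.one_mem _
      · rw [Subgroup.mem_center_iff]
        intro y
        exact Subtype.ext (tc y y.2)
  have hIn : Cfsg.Agent.Helper3.Extra.InClass 2 ↥Q := by
    refine ⟨?_, ?_, ?_⟩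
    · rw [Nat.card_eq_two_iff]
      refine ⟨⟨1, Subgroup.one_mem _⟩, ⟨⟨t, tQ⟩, (mem_center_iff _).mpr (Or.inr rfl)⟩, ?_, ?_⟩
      · intro e
        have e1 := congrArg (fun x : ↥(Subgroup.center ↥Q) => ((x : ↥Q) : Y)) e
        exact t1 e1.symm
      · apply Set.eq_univ_of_forall
        intro x
        rcases (mem_center_iff x.1).mp x.2 with e | e
        · left
          exact Subtype.ext e
        · right
          exact Subtype.ext e
    · intro x y
      rw [mem_center_iff, commutatorElement_def]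
      rcases comm x x.2 y y.2 with e | e
      · left
        exact Subtype.ext e
      · right
        exact Subtype.ext e
    · intro x
      rw [mem_center_iff, pow_two]
      rcases sq x x.2 with e | e
      · left
        exact Subtype.ext e
      · right
        exact Subtype.ext e
  exact hIn.isExtraspecial cardQ

/-- when no three independent commuting involutions exist, the elementary abelian subgroups have
order at most four. -/
theorem card_elemAb_le {Y : Type*} [Group Y] [Finite Y] (Q : Subgroup Y)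
    (noE8 : ∀ x ∈ Q, ∀ y ∈ Q, ∀ w ∈ Q, x * x = 1 → y * y = 1 → w * w = 1 → x * y = y * x →
      x * w = w * x → y * w = w * y →
      x = 1 ∨ y = 1 ∨ y = x ∨ w = 1 ∨ w = x ∨ w = y ∨ w = x * y)
    (E : Subgroup ↥Q) (hE : IsElementaryAbelian 2 E) : Nat.card E ≤ 2 ^ 2 := by
  classical
  by_contra hlt
  rw [not_le] at hlt
  have : Fintype ↥E := Fintype.ofFinite _
  have hcard : 4 < (Finset.univ : Finset ↥E).card := by
    rw [Finset.card_univ, ← Nat.card_eq_fintype_card]
    exact hlt
  have key : ∀ S : Finset ↥E, S.card ≤ 4 → ∃ e : ↥E, e ∉ S := by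
    intro S hS
    obtain ⟨e, -, he⟩ := Finset.exists_mem_notMem_of_card_lt_card (lt_of_le_of_lt hS hcard)
    exact ⟨e, he⟩
  obtain ⟨x, hx⟩ := key {1} (by simp)
  obtain ⟨y, hy⟩ := key {1, x} (le_trans Finset.card_le_two (by norm_num))
  obtain ⟨w, hw⟩ := key {1, x, y, x * y} Finset.card_le_four
  simp only [Finset.mem_insert, Finset.mem_singleton, not_or] at hx hy hw
  have hsq : ∀ a : ↥E, ((a : ↥Q) : Y) * a = 1 := by
    intro a
    have h1 := hE.2 a.1 a.2
    have h2 := congrArg Subtype.val h1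
    rw [pow_two] at h2
    exact h2
  have hcm : ∀ a b : ↥E, ((a : ↥Q) : Y) * b = b * a := by
    intro a b
    have h1 := hE.1.is_comm.comm a b
    exact congrArg (fun c : ↥E => ((c : ↥Q) : Y)) h1
  have hne : ∀ a b : ↥E, a ≠ b → ((a : ↥Q) : Y) ≠ b := by
    intro a b hab e
    exact hab (Subtype.ext (Subtype.ext e))
  rcases noE8 x x.1.2 y y.1.2 w w.1.2 (hsq x) (hsq y) (hsq w) (hcm x y) (hcm x w) (hcm y w) with
    e | e | e | e | e | e | e
  · exact hne x 1 hx e
  · exact hne y 1 hy.1 e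
  · exact hne y x hy.2 e
  · exact hne w 1 hw.1 e
  · exact hne w x hw.2.1 e
  · exact hne w y hw.2.2.1 e
  · exact hne w (x * y) hw.2.2.2 e

/-- the properties of elements. -/
structure ZData {X : Type*} [Group X] (t : X) (Q H : Subgroup X) : Prop where
  tQ : t ∈ Q
  t1 : t ≠ 1
  tsq : t * t = 1
  cardQ : Nat.card Q = 32
  cardH : Nat.card H = 60
  cardC : Nat.card (Subgroup.centralizer ({t} : Set X)) ≤ 1920
  hQC : ∀ q ∈ Q, q * t = t * q
  hHC : ∀ h ∈ H, h * t = t * h
  norm : ∀ h ∈ H, ∀ q ∈ Q, h * q * h⁻¹ ∈ Q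
  disj : ∀ x ∈ Q, x ∈ H → x = 1
  comm : ∀ x ∈ Q, ∀ y ∈ Q, x * y * x⁻¹ * y⁻¹ = 1 ∨ x * y * x⁻¹ * y⁻¹ = t
  sq : ∀ x ∈ Q, x * x = 1 ∨ x * x = t
  center : ∀ x ∈ Q, (∀ y ∈ Q, x * y = y * x) → x = 1 ∨ x = t
  noE8 : ∀ x ∈ Q, ∀ y ∈ Q, ∀ w ∈ Q, x * x = 1 → y * y = 1 → w * w = 1 → x * y = y * x →
    x * w = w * x → y * w = w * y →
    x = 1 ∨ y = 1 ∨ y = x ∨ w = 1 ∨ w = x ∨ w = y ∨ w = x * y
  isoH : Nonempty (↥H ≃* ↥(alternatingGroup (Fin 5)))
  conj : ∀ x : X, orderOf x = 2 → IsConj x t

namespace ZData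

variable {X : Type*} [Group X] {t : X} {Q H : Subgroup X}

theorem main [Finite X] (h : ZData t Q H) :
    (∀ x y : X, orderOf x = 2 → orderOf y = 2 → IsConj x y) ∧
    ∃ t' : X, orderOf t' = 2 ∧
      ∃ (Q' : Subgroup ↥(Subgroup.centralizer ({t'} : Set X))) (_ : Q'.Normal),
        IsExtraspecial 2 Q' ∧ Nat.card Q' = 32 ∧
        (∀ E : Subgroup Q', IsElementaryAbelian 2 E → Nat.card E ≤ 2 ^ 2) ∧
        (∃ H' : Subgroup ↥(Subgroup.centralizer ({t'} : Set X)), Q'.IsComplement' H') ∧
        Nonempty (↥(Subgroup.centralizer ({t'} : Set X)) ⧸ Q' ≃* ↥(alternatingGroup (Fin 5))) := by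
  refine ⟨fun x y hx hy => (h.conj x hx).trans (h.conj y hy).symm, t, ?_, ?_⟩
  · apply orderOf_eq_prime
    · rw [pow_two]
      exact h.tsq
    · exact h.t1
  let C : Subgroup X := Subgroup.centralizer ({t} : Set X)
  have hQC : Q ≤ C := fun q hq => Subgroup.mem_centralizer_singleton_iff.mpr (h.hQC q hq)
  have hHC : H ≤ C := fun q hq => Subgroup.mem_centralizer_singleton_iff.mpr (h.hHC q hq)
  -- the order of the centralizer
  have hcard : Nat.card C = Nat.card Q * Nat.card H := by
    apply le_antisymm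
    · rw [h.cardQ, h.cardH]
      exact h.cardC
    · rw [← Nat.card_prod]
      let f : ↥Q × ↥H → ↥C := fun p => ⟨(p.1 : X) * (p.2 : X), C.mul_mem (hQC p.1.2) (hHC p.2.2)⟩
      have hf : Function.Injective f := by
        rintro ⟨a, b⟩ ⟨c, d⟩ hab
        have h1 : (a : X) * b = c * d := congrArg Subtype.val hab
        have h2 : (c : X)⁻¹ * a = d * (b : X)⁻¹ := by
          rw [inv_mul_eq_iff_eq_mul, ← mul_assoc, ← h1, mul_inv_cancel_right]
        have h3 : (c : X)⁻¹ * a = 1 :=
          h.disj _ (Q.mul_mem (Q.inv_mem c.2) a.2) (h2 ▸ H.mul_mem d.2 (H.inv_mem b.2))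
        have h4 : (d : X) * (b : X)⁻¹ = 1 := by rw [← h2, h3]
        apply Prod.ext
        · exact Subtype.ext (inv_mul_eq_one.mp h3).symm
        · exact Subtype.ext (mul_inv_eq_one.mp h4).symm
      exact Nat.card_le_card_of_injective f hf
  obtain ⟨hnorm, ⟨e⟩⟩ := Cfsg.Agent.Helper9.Trio.split_structure C Q H hQC hHC h.norm h.disj hcard
  obtain ⟨eH⟩ := h.isoH
  refine ⟨Q.subgroupOf C, hnorm, ?_, ?_, ?_, ?_, ⟨e.trans eH⟩⟩
  · -- extraspecial
    apply extraspecial_of (Q.subgroupOf C) ⟨t, hQC h.tQ⟩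
    · exact Subgroup.mem_subgroupOf.mpr h.tQ
    · intro e1
      exact h.t1 (congrArg Subtype.val e1)
    · rw [Nat.card_congr (Subgroup.subgroupOfEquivOfLe hQC).toEquiv, h.cardQ]
      norm_num
    · intro x hx y hy
      rcases h.comm x (Subgroup.mem_subgroupOf.mp hx) y (Subgroup.mem_subgroupOf.mp hy) with e1 | e1
      · left
        exact Subtype.ext e1
      · right
        exact Subtype.ext e1
    · intro x hx
      rcases h.sq x (Subgroup.mem_subgroupOf.mp hx) with e1 | e1
      · left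
        exact Subtype.ext e1
      · right
        exact Subtype.ext e1
    · intro x hx hall
      have : ∀ y ∈ Q, (x : X) * y = y * x := by
        intro y hy
        exact congrArg Subtype.val (hall ⟨y, hQC hy⟩ (Subgroup.mem_subgroupOf.mpr hy))
      rcases h.center x (Subgroup.mem_subgroupOf.mp hx) this with e1 | e1
      · left
        exact Subtype.ext e1
      · right
        exact Subtype.ext e1
    · intro y hy
      exact Subtype.ext (h.hQC y (Subgroup.mem_subgroupOf.mp hy))
  · rw [Nat.card_congr (Subgroup.subgroupOfEquivOfLe hQC).toEquiv, h.cardQ]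
  · apply card_elemAb_le (Q.subgroupOf C)
    intro x hx y hy w hw h1 h2 h3 h4 h5 h6
    have := h.noE8 x (Subgroup.mem_subgroupOf.mp hx) y (Subgroup.mem_subgroupOf.mp hy) w
      (Subgroup.mem_subgroupOf.mp hw) (congrArg Subtype.val h1) (congrArg Subtype.val h2)
      (congrArg Subtype.val h3) (congrArg Subtype.val h4) (congrArg Subtype.val h5)
      (congrArg Subtype.val h6)
    rcases this with e1 | e1 | e1 | e1 | e1 | e1 | e1
    · exact Or.inl (Subtype.ext e1)
    · exact Or.inr (Or.inl (Subtype.ext e1))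
    · exact Or.inr (Or.inr (Or.inl (Subtype.ext e1)))
    · exact Or.inr (Or.inr (Or.inr (Or.inl (Subtype.ext e1))))
    · exact Or.inr (Or.inr (Or.inr (Or.inr (Or.inl (Subtype.ext e1)))))
    · exact Or.inr (Or.inr (Or.inr (Or.inr (Or.inr (Or.inl (Subtype.ext e1))))))
    · exact Or.inr (Or.inr (Or.inr (Or.inr (Or.inr (Or.inr (Subtype.ext e1))))))
  · refine ⟨H.subgroupOf C, ?_⟩
    apply Subgroup.isComplement'_of_card_mul_and_disjoint
    · rw [Nat.card_congr (Subgroup.subgroupOfEquivOfLe hQC).toEquiv,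
        Nat.card_congr (Subgroup.subgroupOfEquivOfLe hHC).toEquiv, ← hcard]
    · rw [Subgroup.disjoint_def]
      intro x hx1 hx2
      exact Subtype.ext (h.disj x (Subgroup.mem_subgroupOf.mp hx1) (Subgroup.mem_subgroupOf.mp hx2))

/-- the properties are carried along isomorphisms. -/
theorem map {X' : Type*} [Group X'] (φ : X ≃* X') (h : ZData t Q H) :
    ZData (φ t) (Q.map φ.toMonoidHom) (H.map φ.toMonoidHom) where
  tQ := ⟨t, h.tQ, rfl⟩
  t1 := by
    intro e
    apply h.t1
    apply φ.injective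
    rw [e, map_one]
  tsq := by rw [← map_mul, h.tsq, map_one]
  cardQ := by rw [Subgroup.card_map_of_injective φ.injective]; exact h.cardQ
  cardH := by rw [Subgroup.card_map_of_injective φ.injective]; exact h.cardH
  cardC := by
    refine le_trans (le_of_eq ?_) h.cardC
    apply Nat.card_congr
    refine ⟨fun x => ⟨φ.symm x.1, ?_⟩, fun x => ⟨φ x.1, ?_⟩, ?_, ?_⟩
    · have hx := Subgroup.mem_centralizer_singleton_iff.mp x.2
      rw [Subgroup.mem_centralizer_singleton_iff]
      apply φ.injective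
      rw [map_mul, map_mul, MulEquiv.apply_symm_apply]
      exact hx
    · have hx := Subgroup.mem_centralizer_singleton_iff.mp x.2
      rw [Subgroup.mem_centralizer_singleton_iff, ← map_mul, ← map_mul, hx]
    · intro x
      apply Subtype.ext
      exact φ.apply_symm_apply x.1
    · intro x
      apply Subtype.ext
      exact φ.symm_apply_apply x.1
  hQC := by
    rintro _ ⟨q, hq, rfl⟩
    change φ q * φ t = φ t * φ q
    rw [← map_mul, ← map_mul, h.hQC q hq]
  hHC := by
    rintro _ ⟨q, hq, rfl⟩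
    change φ q * φ t = φ t * φ q
    rw [← map_mul, ← map_mul, h.hHC q hq]
  norm := by
    rintro _ ⟨k, hk, rfl⟩ _ ⟨q, hq, rfl⟩
    refine ⟨k * q * k⁻¹, h.norm k hk q hq, ?_⟩
    change φ (k * q * k⁻¹) = φ k * φ q * (φ k)⁻¹
    rw [map_mul, map_mul, map_inv]
  disj := by
    rintro _ ⟨q, hq, rfl⟩ ⟨k, hk, e⟩
    have e' : k = q := φ.injective e
    rw [e'] at hk
    change φ q = 1
    rw [h.disj q hq hk, map_one]
  comm := by
    rintro _ ⟨x, hx, rfl⟩ _ ⟨y, hy, rfl⟩
    change φ x * φ y * (φ x)⁻¹ * (φ y)⁻¹ = 1 ∨ φ x * φ y * (φ x)⁻¹ * (φ y)⁻¹ = φ t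
    rw [← map_inv, ← map_inv, ← map_mul, ← map_mul, ← map_mul]
    rcases h.comm x hx y hy with e | e
    · left
      rw [e, map_one]
    · right
      rw [e]
  sq := by
    rintro _ ⟨x, hx, rfl⟩
    change φ x * φ x = 1 ∨ φ x * φ x = φ t
    rw [← map_mul]
    rcases h.sq x hx with e | e
    · left
      rw [e, map_one]
    · right
      rw [e]
  center := by
    rintro _ ⟨x, hx, rfl⟩ hall
    change φ x = 1 ∨ φ x = φ t
    have : ∀ y ∈ Q, x * y = y * x := by
      intro y hy
      apply φ.injective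
      rw [map_mul, map_mul]
      exact hall _ ⟨y, hy, rfl⟩
    rcases h.center x hx this with e | e
    · left
      rw [e, map_one]
    · right
      rw [e]
  noE8 := by
    rintro _ ⟨x, hx, rfl⟩ _ ⟨y, hy, rfl⟩ _ ⟨w, hw, rfl⟩ h1 h2 h3 h4 h5 h6
    change φ x * φ x = 1 at h1
    change φ y * φ y = 1 at h2
    change φ w * φ w = 1 at h3
    change φ x * φ y = φ y * φ x at h4
    change φ x * φ w = φ w * φ x at h5
    change φ y * φ w = φ w * φ y at h6
    change φ x = 1 ∨ φ y = 1 ∨ φ y = φ x ∨ φ w = 1 ∨ φ w = φ x ∨ φ w = φ y ∨ φ w = φ x * φ y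
    rw [← map_mul] at h1 h2 h3 h4 h5 h6
    rw [← map_mul] at h4 h5 h6
    rw [← map_one φ] at h1 h2 h3
    have := h.noE8 x hx y hy w hw (φ.injective h1) (φ.injective h2) (φ.injective h3)
      (φ.injective h4) (φ.injective h5) (φ.injective h6)
    rcases this with e | e | e | e | e | e | e
    · exact Or.inl (by rw [e, map_one])
    · exact Or.inr (Or.inl (by rw [e, map_one]))
    · exact Or.inr (Or.inr (Or.inl (by rw [e])))
    · exact Or.inr (Or.inr (Or.inr (Or.inl (by rw [e, map_one]))))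
    · exact Or.inr (Or.inr (Or.inr (Or.inr (Or.inl (by rw [e])))))
    · exact Or.inr (Or.inr (Or.inr (Or.inr (Or.inr (Or.inl (by rw [e]))))))
    · exact Or.inr (Or.inr (Or.inr (Or.inr (Or.inr (Or.inr (by rw [e, map_mul]))))))
  isoH := by
    obtain ⟨e⟩ := h.isoH
    exact ⟨(H.equivMapOfInjective φ.toMonoidHom φ.injective).symm.trans e⟩
  conj := by
    intro x hx
    have hx' : orderOf (φ.symm x) = 2 := by rw [MulEquiv.orderOf_eq]; exact hx
    obtain ⟨c, hc⟩ := isConj_iff.mp (h.conj _ hx')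
    apply isConj_iff.mpr
    refine ⟨φ c, ?_⟩
    rw [← hc, map_mul, map_mul, map_inv, MulEquiv.apply_symm_apply]

end ZData

end Cfsg.Agent.Helper9.J3Z
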