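import Mathlib

set_option autoImplicit false

/-! Involutions are conjugate into a subgroup containing a Sylow 2-subgroup; a subgroup whose order
is at most the product of the orders of two subgroups meeting in the neutral element only consists
of the products. -/

namespace Cfsg.Agent.Helper9.J3Z

/-- an element of order two is conjugate to an element of a subgroup whose order has the same
power of two as the order of the group. -/
theorem exists_conj_mem {X : Type*} [Group X] [Finite X] (C : Subgroup X)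
    (hfac : (Nat.card X).factorization 2 = (Nat.card C).factorization 2) (x : X)
    (hx : orderOf x = 2) : ∃ g : X, g * x * g⁻¹ ∈ C := by
  have : Fact (Nat.Prime 2) := ⟨Nat.prime_two⟩
  obtain ⟨P⟩ : Nonempty (Sylow 2 ↥C) := inferInstance
  let P' : Subgroup X := (P : Subgroup ↥C).map C.subtype
  have hP' : Nat.card P' = 2 ^ (Nat.card X).factorization 2 := by
    rw [Subgroup.card_map_of_injective C.subtype_injective, hfac]
    exact P.card_eq_multiplicity
  let S : Sylow 2 X := Sylow.ofCard P' hP'
  have hpx : IsPGroup 2 (Subgroup.zpowers x) := by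
    apply IsPGroup.of_card (n := 1)
    rw [Nat.card_zpowers, hx, pow_one]
  obtain ⟨R, hR⟩ := hpx.exists_le_sylow
  obtain ⟨g, hg⟩ := MulAction.exists_smul_eq X R S
  refine ⟨g, ?_⟩
  have hxR : x ∈ R := hR (Subgroup.mem_zpowers x)
  have h1 : g * x * g⁻¹ ∈ ((g • R : Sylow 2 X) : Subgroup X) := by
    rw [Sylow.coe_subgroup_smul]
    exact (Subgroup.mem_smul_pointwise_iff_exists _ _ _).mpr ⟨x, hxR, rfl⟩
  rw [hg] at h1
  obtain ⟨y, -, hy⟩ := Subgroup.mem_map.mp (show g * x * g⁻¹ ∈ P' from h1)
  rw [← hy]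
  exact y.2

/-- a subgroup whose order is at most the product of the orders of two of its subgroups that
meet in the neutral element only consists of the products. -/
theorem exists_mul_of_card {X : Type*} [Group X] [Finite X] (C Q H : Subgroup X) (hQC : Q ≤ C)
    (hHC : H ≤ C) (disj : ∀ x ∈ Q, x ∈ H → x = 1)
    (hcard : Nat.card C ≤ Nat.card Q * Nat.card H) (y : X) (hy : y ∈ C) :
    ∃ q ∈ Q, ∃ h ∈ H, y = q * h := by
  let f : ↥Q × ↥H → ↥C := fun p => ⟨(p.1 : X) * (p.2 : X), C.mul_mem (hQC p.1.2) (hHC p.2.2)⟩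
  have hf : Function.Injective f := by
    rintro ⟨a, b⟩ ⟨c, d⟩ hab
    have h1 : (a : X) * b = c * d := congrArg Subtype.val hab
    have h2 : (c : X)⁻¹ * a = d * (b : X)⁻¹ := by
      rw [inv_mul_eq_iff_eq_mul, ← mul_assoc, ← h1, mul_inv_cancel_right]
    have h3 : (c : X)⁻¹ * a = 1 :=
      disj _ (Q.mul_mem (Q.inv_mem c.2) a.2) (h2 ▸ H.mul_mem d.2 (H.inv_mem b.2))
    have h4 : (d : X) * (b : X)⁻¹ = 1 := by rw [← h2, h3]
    apply Prod.ext
    · exact Subtype.ext (inv_mul_eq_one.mp h3).symm
    · exact Subtype.ext (mul_inv_eq_one.mp h4).symm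
  have hb : Function.Bijective f := by
    apply Function.Injective.bijective_of_nat_card_le hf
    rw [Nat.card_prod]
    exact hcard
  obtain ⟨⟨q, h⟩, e⟩ := hb.2 ⟨y, hy⟩
  exact ⟨q, q.2, h, h.2, (congrArg Subtype.val e).symm⟩

end Cfsg.Agent.Helper9.J3Z
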