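import Mathlib
import Cfsg.Agent.Helper9.J3.Rigid
import Cfsg.Agent.Helper9.J3.Words

set_option autoImplicit false

/-! Elements of the third group of Janko on 6156 points given by packed words: two of them are
equal when they agree on the three points of the base. -/

namespace Cfsg.Agent.Helper9.J3Z

open Cfsg.Agent.Helper9.J3

theorem permP_isAut (w len : ℕ) : IsAut (permP w len) := by
  induction len with
  | zero => exact isAut_one
  | succ len ih => exact isAut_mul (P_isAut _) ih

/-- the element of a code: the length in the low six bits, then the letters. -/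
def elt (c : ℕ) : Equiv.Perm (Fin n) := permP (Nat.shiftRight c 6) (Nat.land c 63)

/-- the image of a point under the element of a code, as the kernel computes it. -/
def ev (c p : ℕ) : ℕ := sapp (fun c' => evP (Nat.shiftRight c' 6) (Nat.land c' 63) p) c

/-- the image of a point under the inverse of the element of a code. -/
def evi (c p : ℕ) : ℕ := sapp (fun c' => evPi (Nat.shiftRight c' 6) (Nat.land c' 63) p) c

theorem elt_apply (c : ℕ) (p : Fin n) : (elt c p).val = ev c p.val := by
  unfold ev elt
  rw [sapp_eq]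
  exact permP_apply _ _ p

theorem elt_inv_apply (c : ℕ) (p : Fin n) : ((elt c)⁻¹ p).val = evi c p.val := by
  unfold evi elt
  rw [sapp_eq]
  exact permP_inv_apply _ _ p

theorem elt_mem (c : ℕ) : elt c ∈ G := permP_mem _ _

theorem elt_isAut (c : ℕ) : IsAut (elt c) := permP_isAut _ _

theorem elt_zero : elt 0 = 1 := rfl

/-- the negation. -/
def notB (a : Bool) : Bool := Bool.rec true false a

theorem notB_true {a : Bool} (h : notB a = true) : a = false := by
  cases a
  · rfl
  · exact absurd h Bool.false_ne_true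

/-- the entry of a list, as the kernel computes it. -/
def nthL (l : List ℕ) (i : ℕ) : ℕ :=
  List.rec (motive := fun _ => ℕ → ℕ) (fun _ => 0)
    (fun a _ ih i => Nat.rec a (fun i' _ => ih i') i) l i

/-- the check that two tables agree on the base. -/
def eqB (f g : ℕ → ℕ) : Bool :=
  andB (Nat.beq (f 0) (g 0)) (andB (Nat.beq (f 6) (g 6)) (Nat.beq (f 1) (g 1)))

theorem eq_of_eqB {σ τ : Equiv.Perm (Fin n)} (hσ : IsAut σ) (hτ : IsAut τ) {f g : ℕ → ℕ}
    (hf : ∀ p : Fin n, (σ p).val = f p.val) (hg : ∀ p : Fin n, (τ p).val = g p.val)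
    (h : eqB f g = true) : σ = τ := by
  obtain ⟨h0, h12⟩ := andB_true h
  obtain ⟨h1, h2⟩ := andB_true h12
  have key : ∀ x : ℕ, x < n → f x = g x → (τ⁻¹ * σ) (toF x) = toF x := by
    intro x hx hfg
    rw [Equiv.Perm.mul_apply, Equiv.Perm.inv_eq_iff_eq]
    apply Fin.ext
    rw [hf, hg, toF_of_lt hx, hfg]
  have := rigid (τ⁻¹ * σ) (isAut_mul (isAut_inv hτ) hσ)
    (key 0 (by norm_num) (Nat.eq_of_beq_eq_true h0))
    (key 6 (by norm_num) (Nat.eq_of_beq_eq_true h1))
    (key 1 (by norm_num) (Nat.eq_of_beq_eq_true h2))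
  exact (inv_mul_eq_one.mp this).symm

theorem eqB_of_eq {σ τ : Equiv.Perm (Fin n)} {f g : ℕ → ℕ}
    (hf : ∀ p : Fin n, (σ p).val = f p.val) (hg : ∀ p : Fin n, (τ p).val = g p.val)
    (h : σ = τ) : eqB f g = true := by
  have key : ∀ x : ℕ, x < n → Nat.beq (f x) (g x) = true := by
    intro x hx
    have h1 := hf (toF x)
    have h2 := hg (toF x)
    rw [toF_of_lt hx] at h1 h2
    rw [← h1, ← h2, h]
    exact Nat.beq_refl _
  unfold eqB
  rw [key 0 (by norm_num), key 6 (by norm_num), key 1 (by norm_num)]
  rfl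

end Cfsg.Agent.Helper9.J3Z
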