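import Mathlib
import Cfsg.Agent.Helper9.J3Z.Base

set_option autoImplicit false

/-! Subgroups of the third group of Janko on 6156 points given by a list of packed words and a
table of products, checked on the base. -/

namespace Cfsg.Agent.Helper9.J3Z

open Cfsg.Agent.Helper9.J3

/-- a list of codes of elements with a table of products. -/
structure WT where
  N : ℕ
  cw : ℕ → ℕ
  m : ℕ → ℕ → ℕ
  z : ℕ

namespace WT

variable (T : WT)

/-- the element of a number. -/
def el (i : ℕ) : Equiv.Perm (Fin n) := elt (T.cw i)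

/-- the check of the table of products on the base. -/
def chkMul : Bool :=
  allB (fun i => allB (fun j => andB (Nat.ble (Nat.succ (T.m i j)) T.N)
    (eqB (fun p => ev (T.cw i) (ev (T.cw j) p)) (ev (T.cw (T.m i j))))) T.N) T.N

/-- the check that the elements are different. -/
def chkInj : Bool :=
  allB (fun i => allB (fun j => orB (Nat.beq i j)
    (notB (eqB (ev (T.cw i)) (ev (T.cw j))))) T.N) T.N

/-- the checked properties. -/
structure Good : Prop where
  z_lt : T.z < T.N
  one : T.cw T.z = 0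
  mul : T.chkMul = true
  inj : T.chkInj = true

variable {T}

theorem Good.el_one (h : T.Good) : T.el T.z = 1 := by
  unfold el
  rw [h.one]
  exact elt_zero

theorem el_apply (T : WT) (i : ℕ) (p : Fin n) : (T.el i p).val = ev (T.cw i) p.val :=
  elt_apply _ p

theorem el_isAut (T : WT) (i : ℕ) : IsAut (T.el i) := elt_isAut _

theorem el_mul_apply (T : WT) (i j : ℕ) (p : Fin n) :
    ((T.el i * T.el j) p).val = ev (T.cw i) (ev (T.cw j) p.val) := by
  rw [Equiv.Perm.mul_apply, el_apply, el_apply]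

theorem Good.m_lt (h : T.Good) {i j : ℕ} (hi : i < T.N) (hj : j < T.N) : T.m i j < T.N :=
  Nat.lt_of_succ_le (Nat.le_of_ble_eq_true (andB_true (allB_true (allB_true h.mul hi) hj)).1)

theorem Good.el_mul (h : T.Good) {i j : ℕ} (hi : i < T.N) (hj : j < T.N) :
    T.el i * T.el j = T.el (T.m i j) :=
  eq_of_eqB (isAut_mul (el_isAut T i) (el_isAut T j)) (el_isAut T _) (el_mul_apply T i j)
    (el_apply T _) (andB_true (allB_true (allB_true h.mul hi) hj)).2

theorem Good.el_inj (h : T.Good) {i j : ℕ} (hi : i < T.N) (hj : j < T.N)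
    (e : T.el i = T.el j) : i = j := by
  rcases orB_true (allB_true (allB_true h.inj hi) hj) with h1 | h1
  · exact Nat.eq_of_beq_eq_true h1
  · have h2 := notB_true h1
    have h3 := eqB_of_eq (el_apply T i) (el_apply T j) e
    rw [h2] at h3
    exact absurd h3 Bool.false_ne_true

/-- the subgroup of the elements of the list. -/
def Good.sub (h : T.Good) : Subgroup (Equiv.Perm (Fin n)) where
  carrier := {g | ∃ i, i < T.N ∧ g = T.el i}
  one_mem' := ⟨T.z, h.z_lt, h.el_one.symm⟩
  mul_mem' := by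
    rintro _ _ ⟨i, hi, rfl⟩ ⟨j, hj, rfl⟩
    exact ⟨T.m i j, h.m_lt hi hj, h.el_mul hi hj⟩
  inv_mem' := by
    rintro g ⟨i, hi, rfl⟩
    have hpow : ∀ k : ℕ, ∃ j, j < T.N ∧ T.el i ^ (k + 1) = T.el j := by
      intro k
      induction k with
      | zero => exact ⟨i, hi, pow_one _⟩
      | succ k ih =>
        obtain ⟨j, hj, e⟩ := ih
        exact ⟨T.m j i, h.m_lt hj hi, by rw [pow_succ, e, h.el_mul hj hi]⟩
    have hpos : 0 < orderOf (T.el i) := orderOf_pos _
    rcases Nat.lt_or_ge (orderOf (T.el i)) 2 with h1 | h1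
    · have h2 : orderOf (T.el i) = 1 := by omega
      rw [orderOf_eq_one_iff] at h2
      refine ⟨T.z, h.z_lt, ?_⟩
      rw [h2, inv_one, h.el_one]
    · obtain ⟨j, hj, e⟩ := hpow (orderOf (T.el i) - 2)
      refine ⟨j, hj, ?_⟩
      rw [← e]
      apply inv_eq_of_mul_eq_one_right
      rw [← pow_succ']
      have : orderOf (T.el i) - 2 + 1 + 1 = orderOf (T.el i) := by omega
      rw [this]
      exact pow_orderOf_eq_one _

theorem Good.mem_sub (h : T.Good) (g : Equiv.Perm (Fin n)) :
    g ∈ h.sub ↔ ∃ i, i < T.N ∧ g = T.el i := Iff.rfl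

theorem Good.el_mem (h : T.Good) {i : ℕ} (hi : i < T.N) : T.el i ∈ h.sub := ⟨i, hi, rfl⟩

theorem Good.sub_le (h : T.Good) : h.sub ≤ G := by
  rintro _ ⟨i, _, rfl⟩
  exact elt_mem _

theorem Good.card_sub (h : T.Good) : Nat.card h.sub = T.N := by
  have e : Fin T.N ≃ h.sub := Equiv.ofBijective (fun i => ⟨T.el i.val, h.el_mem i.isLt⟩) (by
    constructor
    · intro i j hij
      exact Fin.ext (h.el_inj i.isLt j.isLt (congrArg Subtype.val hij))
    · rintro ⟨g, i, hi, rfl⟩
      exact ⟨⟨i, hi⟩, rfl⟩)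
  rw [← Nat.card_congr e, Nat.card_fin]

/-- the number of an element of the subgroup. -/
noncomputable def Good.idx (h : T.Good) (g : h.sub) : ℕ := Classical.choose g.2

theorem Good.idx_lt (h : T.Good) (g : h.sub) : h.idx g < T.N := (Classical.choose_spec g.2).1

theorem Good.idx_spec (h : T.Good) (g : h.sub) : (g : Equiv.Perm (Fin n)) = T.el (h.idx g) :=
  (Classical.choose_spec g.2).2

theorem Good.idx_eq (h : T.Good) (g : h.sub) {i : ℕ} (hi : i < T.N)
    (e : (g : Equiv.Perm (Fin n)) = T.el i) : h.idx g = i :=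
  h.el_inj (h.idx_lt g) hi ((h.idx_spec g).symm.trans e)

theorem Good.idx_one (h : T.Good) : h.idx 1 = T.z := h.idx_eq 1 h.z_lt h.el_one.symm

theorem Good.idx_mul (h : T.Good) (a b : h.sub) : h.idx (a * b) = T.m (h.idx a) (h.idx b) := by
  apply h.idx_eq _ (h.m_lt (h.idx_lt a) (h.idx_lt b))
  rw [← h.el_mul (h.idx_lt a) (h.idx_lt b), ← h.idx_spec a, ← h.idx_spec b]
  rfl

/-- the homomorphism given by a map on the numbers that respects the table of products. -/
noncomputable def Good.toHom (h : T.Good) {M : Type*} [Monoid M] (φ : ℕ → M) (h1 : φ T.z = 1)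
    (h2 : ∀ i, i < T.N → ∀ j, j < T.N → φ (T.m i j) = φ i * φ j) : h.sub →* M where
  toFun g := φ (h.idx g)
  map_one' := by rw [h.idx_one, h1]
  map_mul' a b := by rw [h.idx_mul, h2 _ (h.idx_lt a) _ (h.idx_lt b)]

theorem Good.toHom_apply (h : T.Good) {M : Type*} [Monoid M] (φ : ℕ → M) (h1 : φ T.z = 1)
    (h2 : ∀ i, i < T.N → ∀ j, j < T.N → φ (T.m i j) = φ i * φ j) (g : h.sub) :
    h.toHom φ h1 h2 g = φ (h.idx g) := rfl

end WT

end Cfsg.Agent.Helper9.J3Z
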