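import Mathlib
import Cfsg.Agent.Helper9.J3Z.Tab
import Cfsg.Agent.Helper9.J3Z.Data

set_option autoImplicit false
set_option Elab.async false

/-! The checks on the data of the centralizer of an involution of the third group of Janko. -/

namespace Cfsg.Agent.Helper9.J3Z

open Cfsg.Agent.Helper9.J3

/-- the table of the normal subgroup of order 32. -/
def TQ : WT := ⟨32, nthL cwQ, fun i j => lkF 6 63 mQP (Nat.add (Nat.mul i 32) j), 0⟩

/-- the table of the complement of order 60. -/
def TH : WT := ⟨60, nthL cwH, fun i j => lkF 6 63 mHP (Nat.add (Nat.mul i 60) j), 0⟩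

set_option maxRecDepth 1000000 in
theorem TQ_mul : TQ.chkMul = true := by decide +kernel

set_option maxRecDepth 1000000 in
theorem TQ_inj : TQ.chkInj = true := by decide +kernel

set_option maxRecDepth 1000000 in
theorem TH_mul : TH.chkMul = true := by decide +kernel

set_option maxRecDepth 1000000 in
theorem TH_inj : TH.chkInj = true := by decide +kernel

theorem TQ_good : TQ.Good := ⟨by decide, by decide, TQ_mul, TQ_inj⟩

theorem TH_good : TH.Good := ⟨by decide, by decide, TH_mul, TH_inj⟩

/-- the code of the involution. -/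
def ct : ℕ := nthL cwQ itQ

set_option maxRecDepth 1000000 in
theorem commQ_b : allB (fun i => eqB (fun p => ev (TQ.cw i) (ev ct p))
    (fun p => ev ct (ev (TQ.cw i) p))) 32 = true := by decide +kernel

set_option maxRecDepth 1000000 in
theorem commH_b : allB (fun i => eqB (fun p => ev (TH.cw i) (ev ct p))
    (fun p => ev ct (ev (TH.cw i) p))) 60 = true := by decide +kernel

set_option maxRecDepth 1000000 in
theorem disj_b : allB (fun i => allB (fun j => orB (andB (Nat.beq i 0) (Nat.beq j 0))
    (notB (eqB (ev (TQ.cw i)) (ev (TH.cw j))))) 60) 32 = true := by decide +kernel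

/-- the number of the conjugate of an element of the normal subgroup by an element of the
complement. -/
def cjF (h q : ℕ) : ℕ := lkF 6 63 cjP (Nat.add (Nat.mul h 32) q)

set_option maxRecDepth 1000000 in
theorem norm_b : allB (fun h => allB (fun q => andB (Nat.ble (Nat.succ (cjF h q)) 32)
    (eqB (fun p => ev (TH.cw h) (ev (TQ.cw q) (evi (TH.cw h) p))) (ev (TQ.cw (cjF h q))))) 32) 60 =
    true := by decide +kernel

theorem Q_comm_idx : ∀ i < 32, ∀ j < 32,
    TQ.m i j = TQ.m j i ∨ TQ.m i j = TQ.m itQ (TQ.m j i) := by decide +kernel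

theorem Q_sq_idx : ∀ i < 32, TQ.m i i = 0 ∨ TQ.m i i = itQ := by decide +kernel

theorem Q_center_idx : ∀ i < 32, (∀ j < 32, TQ.m i j = TQ.m j i) → i = 0 ∨ i = itQ := by
  decide +kernel

set_option synthInstance.maxSize 2048 in
set_option synthInstance.maxHeartbeats 400000 in
theorem Q_noE8_idx : ∀ i < 32, ∀ j < 32, ∀ k < 32,
    (TQ.m i i = 0 ∧ TQ.m j j = 0 ∧ TQ.m k k = 0 ∧
      TQ.m i j = TQ.m j i ∧ TQ.m i k = TQ.m k i ∧ TQ.m j k = TQ.m k j) →
    (i = 0 ∨ j = 0 ∨ j = i ∨ k = 0 ∨ k = i ∨ k = j ∨ k = TQ.m i j) := by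
  have h : ∀ i < 32, ∀ j < 32, ∀ k < 32,
      ¬ (TQ.m i i = 0 ∧ TQ.m j j = 0 ∧ TQ.m k k = 0 ∧
        TQ.m i j = TQ.m j i ∧ TQ.m i k = TQ.m k i ∧ TQ.m j k = TQ.m k j) ∨
      (i = 0 ∨ j = 0 ∨ j = i ∨ k = 0 ∨ k = i ∨ k = j ∨ k = TQ.m i j) := by decide +kernel
  intro i hi j hj k hk hc
  rcases h i hi j hj k hk with h1 | h1
  · exact absurd hc h1
  · exact h1

/-- the image of a point of five under an element of the complement. -/
def a5pt (i x : ℕ) : ℕ := Nat.land (Nat.shiftRight (lkF 15 32767 a5P i) (Nat.mul 3 x)) 7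

theorem a5_ok : ∀ i < 60, ∀ j < 60, ∀ x < 5,
    a5pt j x < 5 ∧ a5pt (TH.m i j) x = a5pt i (a5pt j x) := by decide +kernel

theorem a5_inj : ∀ i < 60, (∀ x < 5, a5pt i x = x) → i = 0 := by decide +kernel

theorem a5_one : ∀ x < 5, a5pt 0 x = x := by decide +kernel

/-- the entry of the table of the involutions of the centralizer. -/
def invF (q h : ℕ) : ℕ := lkF 32 4294967295 invP (Nat.add (Nat.mul q 60) h)

/-- the check of an entry of the table of the involutions: an entry zero for an element that is
the neutral element or has a square different from it, or else the code of an element conjugating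
the involution to the element. -/
def invChk (q h : ℕ) : Bool :=
  sapp (fun e => ifz e
    (orB (andB (Nat.beq q 0) (Nat.beq h 0))
      (notB (eqB (fun p => ev (TQ.cw q) (ev (TH.cw h) (ev (TQ.cw q) (ev (TH.cw h) p))))
        (fun p => p))))
    (eqB (fun p => ev (TQ.cw q) (ev (TH.cw h) p))
      (fun p => ev (Nat.pred e) (ev ct (evi (Nat.pred e) p))))) (invF q h)

set_option maxRecDepth 1000000 in
theorem inv_b : allB (fun q => allB (fun h => invChk q h) 60) 32 = true := by decide +kernel

/-- the code of the element conjugating the involution to a conjugate fixing the first point. -/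
def clF (k : ℕ) : ℕ := lkF 32 4294967295 clP k

/-- the image of a point under a conjugate of the involution. -/
def cev (k p : ℕ) : ℕ := ev (clF k) (ev ct (evi (clF k) p))

/-- the signature of a conjugate of the involution. -/
def clSig (k : ℕ) : ℕ := Nat.add (cev k 6) (Nat.mul 8192 (cev k 1))

set_option maxRecDepth 1000000 in
theorem cl_b1 : allB (fun k => Nat.beq (cev k 0) 0) 323 = true := by decide +kernel

set_option maxRecDepth 1000000 in
theorem cl_b2 : allB (fun k => Nat.ble (Nat.succ (clSig k)) (clSig (Nat.succ k))) 322 = true := by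
  decide +kernel

set_option maxRecDepth 1000000 in
theorem fix_b : allB (fun _ => Nat.beq (sumF (fun x => Bool.rec 0 1 (Nat.beq (ev ct x) x)) n) 76)
    1 = true := by decide +kernel

end Cfsg.Agent.Helper9.J3Z
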