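import Mathlib
import Cfsg.Agent.Helper9.J3Z.Abs
import Cfsg.Agent.Helper9.J3Z.Chk
import Cfsg.Agent.Helper9.J3Z.Sylow
import Cfsg.Agent.Helper9.HeC.Abs
import Cfsg.Agent.Helper9.J3.Simple

set_option autoImplicit false

/-! The centralizer of an involution of the third group of Janko on 6156 points. -/

namespace Cfsg.Agent.Helper9.J3Z

open Cfsg.Agent.Helper9.J3

/-- the normal subgroup of order 32. -/
def Q0 : Subgroup (Equiv.Perm (Fin n)) := TQ_good.sub

/-- the complement of order 60. -/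
def H0 : Subgroup (Equiv.Perm (Fin n)) := TH_good.sub

/-- the involution. -/
def t0 : Equiv.Perm (Fin n) := elt ct

theorem t0_eq : t0 = TQ.el itQ := rfl

theorem itQ_lt : itQ < TQ.N := by decide

theorem TQ_el_zero : TQ.el 0 = 1 := TQ_good.el_one

theorem TH_el_zero : TH.el 0 = 1 := TH_good.el_one

theorem t0_mem : t0 ∈ Q0 := ⟨itQ, itQ_lt, rfl⟩

theorem t0_ne : t0 ≠ 1 := by
  intro e
  rw [t0_eq, ← TQ_el_zero] at e
  have := TQ_good.el_inj itQ_lt (by decide : 0 < TQ.N) e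
  exact absurd this (by decide)

theorem t0_sq : t0 * t0 = 1 := by
  rw [t0_eq, TQ_good.el_mul itQ_lt itQ_lt]
  have : TQ.m itQ itQ = 0 := by decide +kernel
  rw [this]
  exact TQ_el_zero

theorem mem_Q0 {x : Equiv.Perm (Fin n)} (hx : x ∈ Q0) : ∃ i, i < 32 ∧ x = TQ.el i := hx

theorem mem_H0 {x : Equiv.Perm (Fin n)} (hx : x ∈ H0) : ∃ i, i < 60 ∧ x = TH.el i := hx

theorem Q0_le : Q0 ≤ G := TQ_good.sub_le

theorem H0_le : H0 ≤ G := TH_good.sub_le

theorem card_Q0 : Nat.card Q0 = 32 := TQ_good.card_sub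

theorem card_H0 : Nat.card H0 = 60 := TH_good.card_sub

theorem t0_apply (p : Fin n) : (t0 p).val = ev ct p.val := elt_apply _ p

theorem Q0_comm_t0 : ∀ q ∈ Q0, q * t0 = t0 * q := by
  intro q hq
  obtain ⟨i, hi, rfl⟩ := mem_Q0 hq
  refine eq_of_eqB (isAut_mul (WT.el_isAut _ _) (elt_isAut _)) (isAut_mul (elt_isAut _) (WT.el_isAut _ _))
    (f := fun p => ev (TQ.cw i) (ev ct p)) (g := fun p => ev ct (ev (TQ.cw i) p)) ?_ ?_
    (allB_true commQ_b hi)
  · intro p
    rw [Equiv.Perm.mul_apply, WT.el_apply, t0_apply]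
  · intro p
    rw [Equiv.Perm.mul_apply, t0_apply, WT.el_apply]

theorem H0_comm_t0 : ∀ q ∈ H0, q * t0 = t0 * q := by
  intro q hq
  obtain ⟨i, hi, rfl⟩ := mem_H0 hq
  refine eq_of_eqB (isAut_mul (WT.el_isAut _ _) (elt_isAut _)) (isAut_mul (elt_isAut _) (WT.el_isAut _ _))
    (f := fun p => ev (TH.cw i) (ev ct p)) (g := fun p => ev ct (ev (TH.cw i) p)) ?_ ?_
    (allB_true commH_b hi)
  · intro p
    rw [Equiv.Perm.mul_apply, WT.el_apply, t0_apply]
  · intro p
    rw [Equiv.Perm.mul_apply, t0_apply, WT.el_apply]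

theorem el_inv_apply (T : WT) (i : ℕ) (p : Fin n) : ((T.el i)⁻¹ p).val = evi (T.cw i) p.val :=
  elt_inv_apply _ p

theorem H0_norm : ∀ h ∈ H0, ∀ q ∈ Q0, h * q * h⁻¹ ∈ Q0 := by
  intro h hh q hq
  obtain ⟨j, hj, rfl⟩ := mem_H0 hh
  obtain ⟨i, hi, rfl⟩ := mem_Q0 hq
  have hb := andB_true (allB_true (allB_true norm_b hj) hi)
  refine ⟨cjF j i, Nat.lt_of_succ_le (Nat.le_of_ble_eq_true hb.1), ?_⟩
  refine eq_of_eqB (isAut_mul (isAut_mul (WT.el_isAut _ _) (WT.el_isAut _ _)) (isAut_inv (WT.el_isAut _ _)))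
    (WT.el_isAut _ _)
    (f := fun p => ev (TH.cw j) (ev (TQ.cw i) (evi (TH.cw j) p))) (g := ev (TQ.cw (cjF j i))) ?_ ?_
    hb.2
  · intro p
    rw [Equiv.Perm.mul_apply, Equiv.Perm.mul_apply, WT.el_apply, WT.el_apply, el_inv_apply]
  · intro p
    exact WT.el_apply _ _ p

theorem Q0_H0_disj : ∀ x ∈ Q0, x ∈ H0 → x = 1 := by
  intro x hx hx'
  obtain ⟨i, hi, rfl⟩ := mem_Q0 hx
  obtain ⟨j, hj, e⟩ := mem_H0 hx'
  rcases orB_true (allB_true (allB_true disj_b hi) hj) with h1 | h1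
  · rw [Nat.eq_of_beq_eq_true (andB_true h1).1]
    exact TQ_el_zero
  · have h2 := notB_true h1
    have h3 := eqB_of_eq (WT.el_apply TQ i) (WT.el_apply TH j) e
    rw [h2] at h3
    exact absurd h3 Bool.false_ne_true

theorem TQ_elmul {i j : ℕ} (hi : i < 32) (hj : j < 32) : TQ.el i * TQ.el j = TQ.el (TQ.m i j) :=
  TQ_good.el_mul hi hj

theorem TQ_m_lt {i j : ℕ} (hi : i < 32) (hj : j < 32) : TQ.m i j < 32 := TQ_good.m_lt hi hj

theorem TQ_elinj {i j : ℕ} (hi : i < 32) (hj : j < 32) (e : TQ.el i = TQ.el j) : i = j :=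
  TQ_good.el_inj hi hj e

theorem Q0_comm : ∀ x ∈ Q0, ∀ y ∈ Q0, x * y * x⁻¹ * y⁻¹ = 1 ∨ x * y * x⁻¹ * y⁻¹ = t0 := by
  intro x hx y hy
  obtain ⟨i, hi, rfl⟩ := mem_Q0 hx
  obtain ⟨j, hj, rfl⟩ := mem_Q0 hy
  rcases Q_comm_idx i hi j hj with h | h
  · left
    have : TQ.el i * TQ.el j = TQ.el j * TQ.el i := by rw [TQ_elmul hi hj, TQ_elmul hj hi, h]
    rw [this]
    group
  · right
    have : TQ.el i * TQ.el j = t0 * (TQ.el j * TQ.el i) := by
      rw [TQ_elmul hi hj, TQ_elmul hj hi, t0_eq, TQ_elmul itQ_lt (TQ_m_lt hj hi), h]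
    rw [this]
    group

theorem Q0_sq : ∀ x ∈ Q0, x * x = 1 ∨ x * x = t0 := by
  intro x hx
  obtain ⟨i, hi, rfl⟩ := mem_Q0 hx
  rw [TQ_elmul hi hi]
  rcases Q_sq_idx i hi with h | h
  · left
    rw [h]
    exact TQ_el_zero
  · right
    rw [h]
    rfl

theorem Q0_center : ∀ x ∈ Q0, (∀ y ∈ Q0, x * y = y * x) → x = 1 ∨ x = t0 := by
  intro x hx hall
  obtain ⟨i, hi, rfl⟩ := mem_Q0 hx
  have : ∀ j < 32, TQ.m i j = TQ.m j i := by
    intro j hj
    apply TQ_elinj (TQ_m_lt hi hj) (TQ_m_lt hj hi)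
    rw [← TQ_elmul hi hj, ← TQ_elmul hj hi]
    exact hall _ ⟨j, hj, rfl⟩
  rcases Q_center_idx i hi this with h | h
  · left
    rw [h]
    exact TQ_el_zero
  · right
    rw [h]
    rfl

theorem Q0_noE8 : ∀ x ∈ Q0, ∀ y ∈ Q0, ∀ w ∈ Q0, x * x = 1 → y * y = 1 → w * w = 1 →
    x * y = y * x → x * w = w * x → y * w = w * y →
    x = 1 ∨ y = 1 ∨ y = x ∨ w = 1 ∨ w = x ∨ w = y ∨ w = x * y := by
  intro x hx y hy w hw h1 h2 h3 h4 h5 h6
  obtain ⟨i, hi, rfl⟩ := mem_Q0 hx
  obtain ⟨j, hj, rfl⟩ := mem_Q0 hy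
  obtain ⟨k, hk, rfl⟩ := mem_Q0 hw
  have h0 : (0 : ℕ) < 32 := by norm_num
  have e1 : ∀ a < 32, TQ.el a * TQ.el a = 1 → TQ.m a a = 0 := by
    intro a ha h
    apply TQ_elinj (TQ_m_lt ha ha) h0
    rw [← TQ_elmul ha ha, h, TQ_el_zero]
  have e2 : ∀ a < 32, ∀ b < 32, TQ.el a * TQ.el b = TQ.el b * TQ.el a → TQ.m a b = TQ.m b a := by
    intro a ha b hb h
    apply TQ_elinj (TQ_m_lt ha hb) (TQ_m_lt hb ha)
    rw [← TQ_elmul ha hb, ← TQ_elmul hb ha, h]
  have := Q_noE8_idx i hi j hj k hk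
    ⟨e1 i hi h1, e1 j hj h2, e1 k hk h3, e2 i hi j hj h4, e2 i hi k hk h5, e2 j hj k hk h6⟩
  rcases this with e | e | e | e | e | e | e
  · exact Or.inl (by rw [e, TQ_el_zero])
  · exact Or.inr (Or.inl (by rw [e, TQ_el_zero]))
  · exact Or.inr (Or.inr (Or.inl (by rw [e])))
  · exact Or.inr (Or.inr (Or.inr (Or.inl (by rw [e, TQ_el_zero]))))
  · exact Or.inr (Or.inr (Or.inr (Or.inr (Or.inl (by rw [e])))))
  · exact Or.inr (Or.inr (Or.inr (Or.inr (Or.inr (Or.inl (by rw [e]))))))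
  · exact Or.inr (Or.inr (Or.inr (Or.inr (Or.inr (Or.inr (by rw [e, TQ_elmul hi hj]))))))

/-! ### the complement is the alternating group of degree five -/

/-- the map of the five points of a number. -/
def a5map (i : ℕ) : Function.End (Fin 5) :=
  fun x => ⟨a5pt i x.val % 5, Nat.mod_lt _ (by norm_num)⟩

theorem a5map_zero : a5map 0 = 1 := by
  funext x
  apply Fin.ext
  change a5pt 0 x.val % 5 = x.val
  rw [a5_one x.val x.isLt]
  exact Nat.mod_eq_of_lt x.isLt

theorem a5map_mul : ∀ i, i < TH.N → ∀ j, j < TH.N → a5map (TH.m i j) = a5map i * a5map j := by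
  intro i hi j hj
  funext x
  apply Fin.ext
  change a5pt (TH.m i j) x.val % 5 = a5pt i (a5pt j x.val % 5) % 5
  obtain ⟨h1, h2⟩ := a5_ok i hi j hj x.val x.isLt
  rw [Nat.mod_eq_of_lt h1, h2]

/-- the action of the complement on five points. -/
noncomputable def a5hom : ↥H0 →* Equiv.Perm (Fin 5) :=
  (Equiv.Perm.equivUnitsEnd (α := Fin 5)).symm.toMonoidHom.comp
    (TH_good.toHom a5map a5map_zero a5map_mul).toHomUnits

theorem a5hom_apply (g : ↥H0) (x : Fin 5) : a5hom g x = a5map (TH_good.idx g) x := rfl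

theorem a5hom_injective : Function.Injective a5hom := by
  rw [injective_iff_map_eq_one]
  intro g hg
  have h1 : ∀ x < 5, a5pt (TH_good.idx g) x = x := by
    intro x hx
    have h2 := congrArg Fin.val (a5hom_apply g ⟨x, hx⟩)
    rw [hg] at h2
    change x = a5pt (TH_good.idx g) x % 5 at h2
    have h3 := (a5_ok 0 (by norm_num) _ (TH_good.idx_lt g) x hx).1
    rw [Nat.mod_eq_of_lt h3] at h2
    exact h2.symm
  have h4 := a5_inj _ (TH_good.idx_lt g) h1
  apply Subtype.ext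
  rw [TH_good.idx_spec g, h4]
  exact TH_el_zero

theorem a5hom_range : a5hom.range = alternatingGroup (Fin 5) := by
  apply Equiv.Perm.eq_alternatingGroup_of_index_eq_two
  have h1 : Nat.card a5hom.range = 60 := by
    rw [← Nat.card_congr (MonoidHom.ofInjective a5hom_injective).toEquiv]
    exact card_H0
  have h2 := Subgroup.card_mul_index a5hom.range
  rw [h1, Nat.card_perm, Nat.card_fin] at h2
  have : Nat.factorial 5 = 120 := by decide
  omega

theorem H0_iso : Nonempty (↥H0 ≃* ↥(alternatingGroup (Fin 5))) :=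
  ⟨(MonoidHom.ofInjective a5hom_injective).trans (MulEquiv.subgroupCongr a5hom_range)⟩

/-! ### the order of the centralizer -/

/-- the involution as an element of the group. -/
def tG : ↥G := ⟨t0, elt_mem ct⟩

/-- the conjugates of the involution that fix the first point. -/
def cG (k : ℕ) : ↥G :=
  ⟨elt (clF k) * t0 * (elt (clF k))⁻¹,
    G.mul_mem (G.mul_mem (elt_mem _) (elt_mem _)) (G.inv_mem (elt_mem _))⟩

theorem cG_apply (k : ℕ) (p : Fin n) : (((cG k : ↥G) : Equiv.Perm (Fin n)) p).val = cev k p.val := by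
  change ((elt (clF k) * t0 * (elt (clF k))⁻¹) p).val = _
  rw [Equiv.Perm.mul_apply, Equiv.Perm.mul_apply, elt_apply, t0_apply, elt_inv_apply]
  rfl

theorem lt_of_step' {f : ℕ → ℕ} {m : ℕ} (h : ∀ j, j + 1 < m → f j < f (j + 1)) :
    ∀ j i : ℕ, i < j → j < m → f i < f j := by
  intro j
  induction j with
  | zero => intro i hi; omega
  | succ j ih =>
    intro i hi hj
    rcases Nat.lt_succ_iff_lt_or_eq.1 hi with h1 | h1
    · exact lt_trans (ih i h1 (by omega)) (h j hj)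
    · rw [h1]
      exact h j hj

theorem inj_of_step' {f : ℕ → ℕ} {m : ℕ} (h : ∀ j, j + 1 < m → f j < f (j + 1))
    {i j : ℕ} (hi : i < m) (hj : j < m) (hij : f i = f j) : i = j := by
  rcases Nat.lt_trichotomy i j with hlt | heq | hgt
  · have := lt_of_step' h j i hlt hj
    omega
  · exact heq
  · have := lt_of_step' h i j hgt hi
    omega

theorem cG_inj : ∀ i < 323, ∀ j < 323, cG i = cG j → i = j := by
  intro i hi j hj h
  apply inj_of_step' (f := clSig) (m := 323) ?_ hi hj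
  · have h6 := cG_apply i (toF 6)
    have h1 := cG_apply i (toF 1)
    rw [h] at h6 h1
    rw [cG_apply, toF_of_lt (by norm_num)] at h6 h1
    unfold clSig
    rw [h6, h1]
  · intro k hk
    have hk' : k < 322 := by omega
    exact Nat.lt_of_succ_le (Nat.le_of_ble_eq_true (allB_true cl_b2 hk'))

theorem sumF_range' (f : ℕ → ℕ) (m : ℕ) : sumF f m = ∑ x ∈ Finset.range m, f x := by
  induction m with
  | zero => rfl
  | succ m ih => rw [sumF_succ, Finset.sum_range_succ, ih, add_comm]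

theorem card_filter_fin' (p : ℕ → Bool) (m : ℕ) :
    (Finset.univ.filter fun q : Fin m => p q.val = true).card =
      sumF (fun x => Bool.rec 0 1 (p x)) m := by
  rw [Finset.card_filter, sumF_range',
    ← Fin.sum_univ_eq_sum_range (fun x => (Bool.rec 0 1 (p x) : ℕ)) m]
  apply Finset.sum_congr rfl
  intro q _
  cases p q.val <;> rfl

theorem card_fix_tG : (Finset.univ.filter fun q : Fin n => tG • q = q).card = 76 := by
  have h := card_filter_fin' (fun x => Nat.beq (ev ct x) x) n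
  rw [Nat.eq_of_beq_eq_true (allB_true fix_b Nat.zero_lt_one)] at h
  rw [← h]
  apply congrArg Finset.card
  apply Finset.filter_congr
  intro q _
  change t0 q = q ↔ _
  constructor
  · intro hq
    have h1 : ev ct q.val = q.val := by rw [← t0_apply, hq]
    rw [h1]
    exact Nat.beq_refl _
  · intro hq
    apply Fin.ext
    rw [t0_apply]
    exact Nat.eq_of_beq_eq_true hq

theorem card_centralizer_le : Nat.card (Subgroup.centralizer ({tG} : Set ↥G)) ≤ 1920 := by
  have h := Cfsg.Agent.Helper9.HeC.card_centralizer_mul_le (G := ↥G) (Ω := Fin n) tG (0 : Fin n)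
    76 323 (le_of_eq card_fix_tG) cG ?_ ?_ cG_inj
  · rw [card_G, Fintype.card_fin] at h
    have hn : n = 6156 := rfl
    generalize Nat.card ↥(Subgroup.centralizer ({tG} : Set ↥G)) = c at h ⊢
    generalize n = m at h hn
    subst hn
    omega
  · intro i _
    exact ⟨⟨elt (clF i), elt_mem _⟩, rfl⟩
  · intro i hi
    apply Fin.ext
    change (((cG i : ↥G) : Equiv.Perm (Fin n)) 0).val = 0
    rw [cG_apply]
    exact Nat.eq_of_beq_eq_true (allB_true cl_b1 hi)

/-! ### the involutions of the centralizer -/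

theorem invChk_zero {q h : ℕ} (h0 : invF q h = 0) (hb : invChk q h = true) :
    (q = 0 ∧ h = 0) ∨
      eqB (fun p => ev (TQ.cw q) (ev (TH.cw h) (ev (TQ.cw q) (ev (TH.cw h) p)))) (fun p => p) =
        false := by
  unfold invChk at hb
  rw [sapp_eq, h0, ifz_zero] at hb
  rcases orB_true hb with h1 | h1
  · left
    exact ⟨Nat.eq_of_beq_eq_true (andB_true h1).1, Nat.eq_of_beq_eq_true (andB_true h1).2⟩
  · right
    exact notB_true h1

theorem invChk_pos {q h : ℕ} (h0 : invF q h ≠ 0) (hb : invChk q h = true) :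
    eqB (fun p => ev (TQ.cw q) (ev (TH.cw h) p))
      (fun p => ev (Nat.pred (invF q h)) (ev ct (evi (Nat.pred (invF q h)) p))) = true := by
  unfold invChk at hb
  rw [sapp_eq, ifz_pos h0] at hb
  exact hb

theorem inv_conj {i j : ℕ} (hi : i < 32) (hj : j < 60) (h1 : TQ.el i * TH.el j ≠ 1)
    (h2 : (TQ.el i * TH.el j) * (TQ.el i * TH.el j) = 1) :
    ∃ k ∈ G, TQ.el i * TH.el j = k * t0 * k⁻¹ := by
  have hb := allB_true (allB_true inv_b hi) hj
  by_cases h0 : invF i j = 0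
  · exfalso
    rcases invChk_zero h0 hb with ⟨e1, e2⟩ | e
    · apply h1
      rw [e1, e2, TQ_el_zero, TH_el_zero, one_mul]
    · have h3 := eqB_of_eq (σ := (TQ.el i * TH.el j) * (TQ.el i * TH.el j)) (τ := 1)
        (f := fun p => ev (TQ.cw i) (ev (TH.cw j) (ev (TQ.cw i) (ev (TH.cw j) p))))
        (g := fun p => p) ?_ ?_ h2
      · rw [e] at h3
        exact absurd h3 Bool.false_ne_true
      · intro p
        rw [Equiv.Perm.mul_apply, Equiv.Perm.mul_apply, Equiv.Perm.mul_apply, WT.el_apply,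
          WT.el_apply, WT.el_apply, WT.el_apply]
      · intro p
        rfl
  · refine ⟨elt (Nat.pred (invF i j)), elt_mem _, ?_⟩
    refine eq_of_eqB (isAut_mul (WT.el_isAut _ _) (WT.el_isAut _ _))
      (isAut_mul (isAut_mul (elt_isAut _) (elt_isAut _)) (isAut_inv (elt_isAut _)))
      ?_ ?_ (invChk_pos h0 hb)
    · intro p
      rw [Equiv.Perm.mul_apply, WT.el_apply, WT.el_apply]
    · intro p
      rw [Equiv.Perm.mul_apply, Equiv.Perm.mul_apply, elt_apply, t0_apply, elt_inv_apply]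

/-! ### the data in the group -/

/-- the normal subgroup of order 32 in the group. -/
def QG : Subgroup ↥G := Q0.subgroupOf G

/-- the complement of order 60 in the group. -/
def HG : Subgroup ↥G := H0.subgroupOf G

theorem mem_QG {x : ↥G} : x ∈ QG ↔ (x : Equiv.Perm (Fin n)) ∈ Q0 := Subgroup.mem_subgroupOf

theorem mem_HG {x : ↥G} : x ∈ HG ↔ (x : Equiv.Perm (Fin n)) ∈ H0 := Subgroup.mem_subgroupOf

theorem card_QG : Nat.card QG = 32 := by
  unfold QG
  rw [Nat.card_congr (Subgroup.subgroupOfEquivOfLe Q0_le).toEquiv]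
  exact card_Q0

theorem card_HG : Nat.card HG = 60 := by
  unfold HG
  rw [Nat.card_congr (Subgroup.subgroupOfEquivOfLe H0_le).toEquiv]
  exact card_H0

theorem QG_comm : ∀ q ∈ QG, q * tG = tG * q := fun _ hq =>
  Subtype.ext (Q0_comm_t0 _ (mem_QG.mp hq))

theorem HG_comm : ∀ q ∈ HG, q * tG = tG * q := fun _ hq =>
  Subtype.ext (H0_comm_t0 _ (mem_HG.mp hq))

theorem QG_HG_disj : ∀ x ∈ QG, x ∈ HG → x = 1 := fun _ hx hx' =>
  Subtype.ext (Q0_H0_disj _ (mem_QG.mp hx) (mem_HG.mp hx'))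

theorem card_mul_le_card {X : Type*} [Group X] [Finite X] (C Q H : Subgroup X) (hQC : Q ≤ C)
    (hHC : H ≤ C) (disj : ∀ x ∈ Q, x ∈ H → x = 1) : Nat.card Q * Nat.card H ≤ Nat.card C := by
  rw [← Nat.card_prod]
  let f : ↥Q × ↥H → ↥C := fun p => ⟨(p.1 : X) * (p.2 : X), C.mul_mem (hQC p.1.2) (hHC p.2.2)⟩
  have hf : Function.Injective f := by
    rintro ⟨a, b⟩ ⟨c, d⟩ hab
    have h1 : (a : X) * b = c * d := congrArg Subtype.val hab
    have h2 : (c : X)⁻¹ * a = d * (b : X)⁻¹ := by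
      rw [inv_mul_eq_iff_eq_mul, ← mul_assoc, ← h1, mul_inv_cancel_right]
    have h3 : (c : X)⁻¹ * a = 1 :=
      disj _ (Q.mul_mem (Q.inv_mem c.2) a.2) (h2 ▸ H.mul_mem d.2 (H.inv_mem b.2))
    have h4 : (d : X) * (b : X)⁻¹ = 1 := by rw [← h2, h3]
    apply Prod.ext
    · exact Subtype.ext (inv_mul_eq_one.mp h3).symm
    · exact Subtype.ext (mul_inv_eq_one.mp h4).symm
  exact Nat.card_le_card_of_injective f hf

theorem QG_le : QG ≤ Subgroup.centralizer ({tG} : Set ↥G) := fun q hq =>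
  Subgroup.mem_centralizer_singleton_iff.mpr (QG_comm q hq)

theorem HG_le : HG ≤ Subgroup.centralizer ({tG} : Set ↥G) := fun q hq =>
  Subgroup.mem_centralizer_singleton_iff.mpr (HG_comm q hq)

theorem card_centralizer : Nat.card (Subgroup.centralizer ({tG} : Set ↥G)) = 1920 := by
  apply le_antisymm card_centralizer_le
  have := card_mul_le_card _ QG HG QG_le HG_le QG_HG_disj
  rw [card_QG, card_HG] at this
  exact this

theorem conj_tG (x : ↥G) (hx : orderOf x = 2) : IsConj x tG := by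
  have hfac : (Nat.card ↥G).factorization 2 =
      (Nat.card (Subgroup.centralizer ({tG} : Set ↥G))).factorization 2 := by
    rw [card_centralizer, card_G]
    have h1 : (50232960 : ℕ) = 2 ^ 7 * 392445 := by norm_num
    have h2 : (1920 : ℕ) = 2 ^ 7 * 15 := by norm_num
    rw [h1, h2, Nat.factorization_mul (by norm_num) (by norm_num),
      Nat.factorization_mul (by norm_num) (by norm_num)]
    simp only [Finsupp.coe_add, Pi.add_apply]
    rw [Nat.factorization_eq_zero_of_not_dvd (n := 392445) (by norm_num),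
      Nat.factorization_eq_zero_of_not_dvd (n := 15) (by norm_num)]
  obtain ⟨g, hg⟩ := exists_conj_mem _ hfac x hx
  obtain ⟨q, hq, h, hh, e⟩ := exists_mul_of_card _ QG HG QG_le HG_le QG_HG_disj
    (by rw [card_centralizer, card_QG, card_HG]) _ hg
  obtain ⟨i, hi, eq⟩ := mem_Q0 (mem_QG.mp hq)
  obtain ⟨j, hj, eh⟩ := mem_H0 (mem_HG.mp hh)
  have hxx : x * x = 1 := by
    rw [← pow_two, ← hx]
    exact pow_orderOf_eq_one x
  have hx1 : x ≠ 1 := by
    intro e1
    rw [e1, orderOf_one] at hx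
    omega
  have e' : ((g * x * g⁻¹ : ↥G) : Equiv.Perm (Fin n)) = TQ.el i * TH.el j := by
    rw [e, ← eq, ← eh]
    rfl
  have h1 : TQ.el i * TH.el j ≠ 1 := by
    rw [← e']
    intro e1
    have e2 : g * x * g⁻¹ = 1 := Subtype.ext e1
    apply hx1
    have : x = g⁻¹ * (g * x * g⁻¹) * g := by group
    rw [this, e2]
    group
  have h2 : (TQ.el i * TH.el j) * (TQ.el i * TH.el j) = 1 := by
    rw [← e']
    have : (g * x * g⁻¹) * (g * x * g⁻¹) = 1 := by
      have : (g * x * g⁻¹) * (g * x * g⁻¹) = g * (x * x) * g⁻¹ := by group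
      rw [this, hxx]
      group
    exact congrArg Subtype.val this
  obtain ⟨k, hk, ek⟩ := inv_conj hi hj h1 h2
  rw [isConj_iff]
  refine ⟨(⟨k, hk⟩ : ↥G)⁻¹ * g, ?_⟩
  have e3 : g * x * g⁻¹ = (⟨k, hk⟩ : ↥G) * tG * (⟨k, hk⟩ : ↥G)⁻¹ := by
    apply Subtype.ext
    rw [e', ek]
    rfl
  have : (⟨k, hk⟩ : ↥G)⁻¹ * g * x * ((⟨k, hk⟩ : ↥G)⁻¹ * g)⁻¹ =
      (⟨k, hk⟩ : ↥G)⁻¹ * (g * x * g⁻¹) * (⟨k, hk⟩ : ↥G) := by group
  rw [this, e3]
  group

theorem zdata : ZData tG QG HG where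
  tQ := mem_QG.mpr t0_mem
  t1 := fun e => t0_ne (congrArg Subtype.val e)
  tsq := Subtype.ext t0_sq
  cardQ := card_QG
  cardH := card_HG
  cardC := card_centralizer_le
  hQC := QG_comm
  hHC := HG_comm
  norm := fun h hh q hq => mem_QG.mpr (H0_norm _ (mem_HG.mp hh) _ (mem_QG.mp hq))
  disj := QG_HG_disj
  comm := fun x hx y hy =>
    (Q0_comm _ (mem_QG.mp hx) _ (mem_QG.mp hy)).imp (fun e => Subtype.ext e) (fun e => Subtype.ext e)
  sq := fun x hx => (Q0_sq _ (mem_QG.mp hx)).imp (fun e => Subtype.ext e) (fun e => Subtype.ext e)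
  center := fun x hx hall =>
    (Q0_center _ (mem_QG.mp hx) (fun y hy => by
      have hyG : y ∈ G := Q0_le hy
      exact congrArg Subtype.val (hall ⟨y, hyG⟩ (mem_QG.mpr hy)))).imp
      (fun e => Subtype.ext e) (fun e => Subtype.ext e)
  noE8 := by
    intro x hx y hy w hw h1 h2 h3 h4 h5 h6
    have := Q0_noE8 _ (mem_QG.mp hx) _ (mem_QG.mp hy) _ (mem_QG.mp hw)
      (congrArg Subtype.val h1) (congrArg Subtype.val h2) (congrArg Subtype.val h3)
      (congrArg Subtype.val h4) (congrArg Subtype.val h5) (congrArg Subtype.val h6)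
    rcases this with e1 | e1 | e1 | e1 | e1 | e1 | e1
    · exact Or.inl (Subtype.ext e1)
    · exact Or.inr (Or.inl (Subtype.ext e1))
    · exact Or.inr (Or.inr (Or.inl (Subtype.ext e1)))
    · exact Or.inr (Or.inr (Or.inr (Or.inl (Subtype.ext e1))))
    · exact Or.inr (Or.inr (Or.inr (Or.inr (Or.inl (Subtype.ext e1)))))
    · exact Or.inr (Or.inr (Or.inr (Or.inr (Or.inr (Or.inl (Subtype.ext e1))))))
    · exact Or.inr (Or.inr (Or.inr (Or.inr (Or.inr (Or.inr (Subtype.ext e1))))))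
  isoH := by
    obtain ⟨e⟩ := H0_iso
    exact ⟨(Subgroup.subgroupOfEquivOfLe H0_le).trans e⟩
  conj := conj_tG

end Cfsg.Agent.Helper9.J3Z
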